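import Cfsg.Agent.Lib.F2C.AL1
import Cfsg.Agent.S0042
import Cfsg.Agent.S0034

set_option autoImplicit false

namespace H33.F2C

universe u

variable {G : Type*} [Group G] [Finite G]

variable {p : ℕ} {X : Set (Subgroup G)}

namespace AL2

variable (al : Al p X) (h : ∀ P ∈ X, ∀ P' ∈ X, P' ≤ Ce P → P' = P)
include al h

theorem pr {P P' : Subgroup G} (hP : P ∈ X) (hP' : P' ∈ X) (ne : P' ≠ P) :
    Kp p P P' ≠ ⊥ ∧ Mem p P (Kp p P P') ∧ ∃ k ∈ Kp p P P', P' = cj k P := by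
  obtain ⟨P₃, h3, S, hS, l1, l3, m, k, hk, e⟩ := al.hy.pair hP hP'
  obtain rfl := al.hy.adj h hP h3 hS l1 l3
  refine ⟨fun b => ne ?_, m, k, hk, e⟩
  rw [b, Subgroup.mem_bot] at hk
  rw [e, hk, cj_one]

theorem common {P P' : Subgroup G} (hP : P ∈ X) (hP' : P' ∈ X) (ne : P' ≠ P) :
    ∃ L, Ln p P L ∧ Ln p P' L := by
  obtain ⟨n, m, k, hk, e⟩ := pr al h hP hP' ne
  obtain ⟨L, hL, l⟩ := ln_ex m n
  have := hL.conj k
  rw [← e, cj_of_mem (l hk)] at this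
  exact ⟨L, hL, this⟩

theorem uniq {P P' L L' : Subgroup G} (hP : P ∈ X) (hP' : P' ∈ X) (ne : P' ≠ P) (a : Ln p P L)
    (a' : Ln p P' L) (c : Ln p P L') (c' : Ln p P' L') : L = L' := by
  obtain ⟨n, m, -⟩ := pr al h hP hP' ne
  exact al.ln_eq hP a c m n (al.ln_nm hP a m ((kp_le P P').trans (sup_le a.mem.nrm a'.mem.nrm)))
    (al.ln_nm hP c m ((kp_le P P').trans (sup_le c.mem.nrm c'.mem.nrm)))

theorem step {P P'' P' L : Subgroup G} (hP : P ∈ X) (hP'' : P'' ∈ X) (hP' : P' ∈ X) (ne : P'' ≠ P)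
    (a : Ln p P L) (a'' : Ln p P'' L) (n : ¬ Ln p P' L) {t : G} (t1 : t ∈ Nm P) (t2 : t ∈ Nm P'') :
    t ∈ Nm P' := by
  obtain ⟨L₁, b1, c1⟩ := common al h hP hP' fun e => n (e ▸ a)
  obtain ⟨L₂, b2, c2⟩ := common al h hP'' hP' fun e => n (e ▸ a'')
  have d1 := c1.conj t
  have d2 := c2.conj t
  rw [cj_eq_iff.2 (al.ln_inv hP b1 t1)] at d1
  rw [cj_eq_iff.2 (al.ln_inv hP'' b2 t2)] at d2
  by_contra k
  obtain rfl := uniq al h hP' (al.hy.conj P' hP' t) (fun e => k (cj_eq_iff.1 e)) c1 d1 c2 d2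
  exact n (uniq al h hP hP'' ne b1 b2 a a'' ▸ c1)

theorem all {P P'' : Subgroup G} (hP : P ∈ X) (hP'' : P'' ∈ X) (ne : P'' ≠ P) {t : G} (t1 : t ∈ Nm P)
    (t2 : t ∈ Nm P'') {P' : Subgroup G} (hP' : P' ∈ X) : t ∈ Nm P' := by
  obtain ⟨L, a, a''⟩ := common al h hP hP'' ne
  obtain ⟨L', c, n⟩ : ∃ L', Ln p P L' ∧ L ≠ L' := by
    obtain ⟨L₁, L₂, b1, b2, n⟩ := al.two_ln hP
    by_cases e : L = L₁
    · exact ⟨L₂, b2, e ▸ n⟩
    · exact ⟨L₁, b1, e⟩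
  obtain ⟨v, hv, m⟩ := ex_move al.hy.pr (al.hy.card P hP) c.mem c.ne
  have h3 := al.hy.conj P hP v
  have c3 := c.conj v
  rw [cj_of_mem hv] at c3
  by_cases k : Ln p P' L
  · by_cases e : P' = P
    · exact e ▸ t1
    · exact step al h hP h3 hP' m c c3 (fun k' => n (uniq al h hP hP' e a k c k')) t1
        (step al h hP hP'' h3 ne a a'' (fun k' => n (uniq al h hP h3 m a k' c c3)) t1 t2)
  · exact step al h hP hP'' hP' ne a a'' k t1 t2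

theorem bot : (⨅ P ∈ X, Nm P : Subgroup G) = ⊥ := by
  have hy := al.hy
  by_contra n
  refine hy.ce_ne n (top_le_iff.1 (hy.gen ▸ sSup_le fun P hP => ce_symm (comm_bot.1 ?_)))
  have l : (⨅ P ∈ X, Nm P : Subgroup G) ≤ Nm P := iInf₂_le P hP
  have i : (⨅ P ∈ X, Nm P : Subgroup G) ⊓ P = ⊥ := by
    by_contra k
    have e := inf_eq_right.1 (eq_of_card hy.pr (hy.card P hP) inf_le_right k)
    refine hy.pt_top hP (top_le_iff.1 (hy.gen ▸ sSup_le fun Q hQ => le_of_eq ?_))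
    exact hy.adj h hP hQ (psup (e.trans (iInf₂_le Q hQ)) (hy.pt_p hQ) (hy.pt_p hP)) le_sup_right
      le_sup_left
  refine le_bot_iff.1 (i ▸ le_inf (comm_le_left fun g _ => ?_) (comm_le_right l))
  refine cj_eq_iff.1 (Subgroup.eq_of_le_of_card_ge (le_iInf₂ fun Q hQ => ?_) (card_cj g _).ge)
  have := cj_mono g (iInf₂_le (f := fun P (_ : P ∈ X) => Nm P) _ (hy.conj Q hQ g⁻¹))
  rwa [cj_nm, cj_cj_inv] at this

end AL2

theorem Al.noadj (al : Al p X) (h : ∀ P ∈ X, ∀ P' ∈ X, P' ≤ Ce P → P' = P) : False := by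
  have hy := al.hy
  obtain ⟨P, hP⟩ := hy.ne
  have nt := hy.nm_ne (hy.pt_ne hP) (p_nil hy.pr (hy.pt_p hP))
  have fr : Cfsg.IsFrobeniusComplement (Nm P) := by
    refine ⟨fun e => hy.pt_ne hP (le_bot_iff.1 (e ▸ Subgroup.le_normalizer)), nt, fun g hg => ?_⟩
    rw [eq_bot_iff, ← AL2.bot al h]
    intro t ht
    have t2 : t ∈ cj g (Nm P) := ht.2
    rw [cj_nm] at t2
    exact Subgroup.mem_iInf.2 fun Q => Subgroup.mem_iInf.2 fun hQ =>
      AL2.all al h hP (hy.conj P hP g) (fun e => hg (cj_eq_iff.1 e)) ht.1 t2 hQ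
  obtain ⟨N, e, hN, nil⟩ := Cfsg.Agent.S0042.result _ fr
  have c := (Cfsg.Agent.S0034.result _ fr).1
  rw [← e] at c
  refine hy.nm_ne (fun b => nt (Subgroup.index_eq_one.1 ?_)) nil (Subgroup.normalizer_eq_top N)
  rw [← c, b]
  exact Subgroup.card_bot

end H33.F2C
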