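import Mathlib
import Cfsg.Prelude.Def_Solvable

/-! Definitions for project F2C (S3817, Flavell's characterisation of the second Fitting subgroup). -/

set_option autoImplicit false

namespace H33.F2C

universe u

variable {G : Type*} [Group G]

/-- The left conjugate `g H g⁻¹`. -/
def cj (g : G) (H : Subgroup G) : Subgroup G := H.map (MulAut.conj g).toMonoidHom

abbrev Nm (H : Subgroup G) : Subgroup G := Subgroup.normalizer (H : Set G)
abbrev Ce (H : Subgroup G) : Subgroup G := Subgroup.centralizer (H : Set G)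
abbrev Cg (a : G) : Subgroup G := Subgroup.centralizer ({a} : Set G)

/-- order prime to `s` -/
def Cop (s : ℕ) (H : Subgroup G) : Prop := (Nat.card H).Coprime s

/-- `O_s(M)` inside `G` -/
def Os (s : ℕ) (M : Subgroup G) : Subgroup G := sSup {R | R ≤ M ∧ M ≤ Nm R ∧ IsPGroup s R}
/-- `O_{s'}(M)` inside `G` -/
def Oq (s : ℕ) (M : Subgroup G) : Subgroup G := sSup {R | R ≤ M ∧ M ≤ Nm R ∧ Cop s R}
/-- `O_{p'}(F(M))` inside `G` -/
def Fp (p : ℕ) (M : Subgroup G) : Subgroup G :=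
  sSup {R | R ≤ M ∧ M ≤ Nm R ∧ Group.IsNilpotent R ∧ Cop p R}
/-- `O^p(⟨P, Q⟩)` -/
def Kp (p : ℕ) (P Q : Subgroup G) : Subgroup G :=
  Subgroup.closure {g | g ∈ P ⊔ Q ∧ (orderOf g).Coprime p}
/-- the largest member inside `M` -/
def W (p : ℕ) (P M : Subgroup G) : Subgroup G := ⁅Fp p M, P⁆

/-- members: nilpotent `p'`-subgroups with `Q = [Q, P]` -/
structure Mem (p : ℕ) (P Q : Subgroup G) : Prop where
  nil : Group.IsNilpotent Q
  cop : Cop p Q
  nrm : P ≤ Nm Q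
  com : ⁅Q, P⁆ = Q

/-- maximal nontrivial members that are `r`-groups -/
structure Mx (p r : ℕ) (P U : Subgroup G) : Prop where
  mem : Mem p P U
  grp : IsPGroup r U
  ne : U ≠ ⊥
  max : ∀ Q, Mem p P Q → IsPGroup r Q → U ≤ Q → Q = U

/-- maximal nontrivial members (lines) -/
structure Ln (p : ℕ) (P L : Subgroup G) : Prop where
  mem : Mem p P L
  ne : L ≠ ⊥
  max : ∀ Q, Mem p P Q → L ≤ Q → Q = L

/-- all members lie with `P` in a proper subgroup -/
def MC (p : ℕ) (P : Subgroup G) : Prop := ∃ M : Subgroup G, M ≠ ⊤ ∧ P ≤ M ∧ ∀ Q, Mem p P Q → Q ≤ M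

/-- the line `L` meets the centraliser of `a` in a nontrivial member -/
def Hit (P L : Subgroup G) (a : G) : Prop := ⁅L ⊓ Cg a, P⁆ ≠ ⊥

/-- the minimal counterexample without solvable normal subgroups; `X` is the class of points -/
structure Hy (p : ℕ) (X : Set (Subgroup G)) : Prop where
  pr : p.Prime
  card : ∀ P ∈ X, Nat.card P = p
  ne : X.Nonempty
  conj : ∀ P ∈ X, ∀ g : G, cj g P ∈ X
  trans : ∀ P ∈ X, ∀ P' ∈ X, ∃ g : G, P' = cj g P
  nosolv : ∀ D : Subgroup G, D ≠ ⊥ → Group.IsSolvable D → Nm D ≠ ⊤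
  gen : sSup X = ⊤
  two : ∀ P ∈ X, ∀ y : G, P ⊔ Subgroup.zpowers y ≠ ⊤
  loc : ∀ M : Subgroup G, M ≠ ⊤ → ∀ P ∈ X, P ≤ M → ∃ F S : Subgroup G, Group.IsNilpotent F ∧ Cop p F ∧
    F ≤ M ∧ M ≤ Nm F ∧ IsPGroup p S ∧ P ≤ S ∧ S ≤ M ∧ ∀ m ∈ M, cj m P ≤ F ⊔ S

/-- the case where no maximal prime-power member has its centre centralised by the point -/
structure Al (p : ℕ) (X : Set (Subgroup G)) : Prop where
  hy : Hy p X
  odd : p ≠ 2
  al : ∀ P ∈ X, ∀ r : ℕ, r.Prime → ∀ U, Mx p r P U → ¬ (U ⊓ Ce U ≤ Ce P)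
  nmc : ∀ P ∈ X, ¬ MC p P

/-- lower central series of a subgroup, inside `G` -/
def lc (B : Subgroup G) : ℕ → Subgroup G
  | 0 => B
  | n + 1 => ⁅lc B n, B⁆

/-- metanilpotent -/
def Meta (B : Subgroup G) : Prop := ∃ n, Group.IsNilpotent (lc B n)

/-- the subgroup generated by the `K`-conjugates of `x` -/
def ncl (K : Subgroup G) (x : G) : Subgroup G := Subgroup.closure {g | ∃ k ∈ K, g = k * x * k⁻¹}

/-- the two-generator hypothesis -/
def Hyp (x : G) : Prop := ∀ y : G, Meta (ncl (Subgroup.closure {x, y}) x)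

instance fit_normal (H : Type*) [Group H] : (Cfsg.fittingSubgroup H).Normal :=
  Subgroup.sSup_normal _ (fun _ h => h.1)

/-- the second Fitting subgroup -/
def F2 (H : Type*) [Group H] : Subgroup H :=
  (Cfsg.fittingSubgroup (H ⧸ Cfsg.fittingSubgroup H)).comap (QuotientGroup.mk' (Cfsg.fittingSubgroup H))

/-- the induction hypothesis -/
def IH (G : Type u) [Group G] : Prop :=
  ∀ (H : Type u) [Group H] [Finite H], Nat.card H < Nat.card G → ∀ x : H, Hyp x → Meta (ncl ⊤ x)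

/-! ### conjugation -/

theorem mem_cj {g a : G} {H : Subgroup G} : a ∈ cj g H ↔ g⁻¹ * a * g ∈ H := by
  constructor
  · rintro ⟨b, hb, rfl⟩
    simpa [mul_assoc] using hb
  · intro h
    exact ⟨_, h, by simp [mul_assoc]⟩

theorem cj_mem {g a : G} {H : Subgroup G} (h : a ∈ H) : g * a * g⁻¹ ∈ cj g H :=
  mem_cj.2 (by simpa [mul_assoc] using h)

theorem cj_one (H : Subgroup G) : cj 1 H = H := by ext a; simp [mem_cj]

theorem cj_mul (g h : G) (H : Subgroup G) : cj (g * h) H = cj g (cj h H) := by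
  ext a; simp [mem_cj, mul_assoc]

theorem cj_inv_cj (g : G) (H : Subgroup G) : cj g⁻¹ (cj g H) = H := by
  rw [← cj_mul, inv_mul_cancel, cj_one]

theorem cj_cj_inv (g : G) (H : Subgroup G) : cj g (cj g⁻¹ H) = H := by
  rw [← cj_mul, mul_inv_cancel, cj_one]

theorem cj_mono (g : G) {H K : Subgroup G} (h : H ≤ K) : cj g H ≤ cj g K := Subgroup.map_mono h

theorem cj_le_cj {g : G} {H K : Subgroup G} : cj g H ≤ cj g K ↔ H ≤ K :=
  ⟨fun h => by simpa [cj_inv_cj] using cj_mono g⁻¹ h, cj_mono g⟩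

theorem cj_inj {g : G} {H K : Subgroup G} : cj g H = cj g K ↔ H = K :=
  ⟨fun h => le_antisymm (cj_le_cj.1 h.le) (cj_le_cj.1 h.ge), fun h => by rw [h]⟩

theorem cj_sup (g : G) (H K : Subgroup G) : cj g (H ⊔ K) = cj g H ⊔ cj g K := Subgroup.map_sup _ _ _

theorem cj_inf (g : G) (H K : Subgroup G) : cj g (H ⊓ K) = cj g H ⊓ cj g K := by
  ext a; simp [mem_cj]

theorem cj_comm (g : G) (H K : Subgroup G) : cj g ⁅H, K⁆ = ⁅cj g H, cj g K⁆ :=
  Subgroup.map_commutator _ _ _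

theorem cj_bot (g : G) : cj g (⊥ : Subgroup G) = ⊥ := Subgroup.map_bot _

theorem cj_top (g : G) : cj g (⊤ : Subgroup G) = ⊤ := by ext a; simp [mem_cj]

theorem cj_eq_bot {g : G} {H : Subgroup G} : cj g H = ⊥ ↔ H = ⊥ := by
  rw [← cj_inj (g := g) (H := H), cj_bot]

theorem cj_eq_top {g : G} {H : Subgroup G} : cj g H = ⊤ ↔ H = ⊤ := by
  rw [← cj_inj (g := g) (H := H), cj_top]

theorem cj_eq_iff {g : G} {H : Subgroup G} : cj g H = H ↔ g ∈ Nm H := by
  rw [Subgroup.mem_normalizer_iff'']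
  constructor
  · intro h a
    rw [← mem_cj, h]
  · intro h
    ext a
    rw [mem_cj]
    exact (h a).symm

theorem cj_of_mem {g : G} {H : Subgroup G} (h : g ∈ H) : cj g H = H :=
  cj_eq_iff.2 (Subgroup.le_normalizer h)

theorem cj_le_of {g : G} {H M : Subgroup G} (hg : g ∈ M) (h : H ≤ M) : cj g H ≤ M :=
  (cj_mono g h).trans (cj_of_mem hg).le

theorem cj_nm (g : G) (H : Subgroup G) : cj g (Nm H) = Nm (cj g H) := by
  ext a
  rw [mem_cj, ← cj_eq_iff, ← cj_eq_iff, cj_mul, cj_mul, ← cj_inj (g := g), cj_cj_inv]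

theorem cj_ce (g : G) (H : Subgroup G) : cj g (Ce H) = Ce (cj g H) := by
  ext a
  rw [mem_cj, Subgroup.mem_centralizer_iff, Subgroup.mem_centralizer_iff]
  constructor
  · intro h b hb
    have := h _ (mem_cj.1 hb)
    calc b * a = g * ((g⁻¹ * b * g) * (g⁻¹ * a * g)) * g⁻¹ := by group
      _ = a * b := by rw [this]; group
  · intro h b hb
    have := h _ (cj_mem (g := g) hb)
    calc b * (g⁻¹ * a * g) = g⁻¹ * ((g * b * g⁻¹) * a) * g := by group
      _ = _ := by rw [this]; group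

theorem ce_le_nm (H : Subgroup G) : Ce H ≤ Nm H := Subgroup.centralizer_le_normalizer _

theorem cj_of_ce {g : G} {H : Subgroup G} (h : g ∈ Ce H) : cj g H = H := cj_eq_iff.2 (ce_le_nm H h)

theorem ce_symm {H K : Subgroup G} (h : H ≤ Ce K) : K ≤ Ce H := Subgroup.le_centralizer_iff.1 h

theorem nm_le_nm_ce (H : Subgroup G) : Nm H ≤ Nm (Ce H) := fun g hg => by
  rw [← cj_eq_iff, cj_ce, cj_eq_iff.2 hg]

theorem nm_inf {g : G} {H K : Subgroup G} (h : g ∈ Nm H) (k : g ∈ Nm K) : g ∈ Nm (H ⊓ K) := by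
  rw [← cj_eq_iff, cj_inf, cj_eq_iff.2 h, cj_eq_iff.2 k]

theorem nm_sup {g : G} {H K : Subgroup G} (h : g ∈ Nm H) (k : g ∈ Nm K) : g ∈ Nm (H ⊔ K) := by
  rw [← cj_eq_iff, cj_sup, cj_eq_iff.2 h, cj_eq_iff.2 k]

theorem nm_comm {g : G} {H K : Subgroup G} (h : g ∈ Nm H) (k : g ∈ Nm K) : g ∈ Nm ⁅H, K⁆ := by
  rw [← cj_eq_iff, cj_comm, cj_eq_iff.2 h, cj_eq_iff.2 k]

theorem nm_nm {g : G} {H : Subgroup G} (h : g ∈ Nm H) : g ∈ Nm (Nm H) := Subgroup.le_normalizer h

/-- the conjugation isomorphism -/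
noncomputable def cjEquiv (g : G) (H : Subgroup G) : H ≃* cj g H :=
  H.equivMapOfInjective _ (MulAut.conj g).injective

theorem card_cj (g : G) (H : Subgroup G) : Nat.card (cj g H) = Nat.card H :=
  (Nat.card_congr (cjEquiv g H).toEquiv).symm

theorem p_cj {r : ℕ} (g : G) {H : Subgroup G} (h : IsPGroup r H) : IsPGroup r (cj g H) :=
  h.of_equiv (cjEquiv g H)

theorem nil_cj (g : G) {H : Subgroup G} (h : Group.IsNilpotent H) : Group.IsNilpotent (cj g H) :=
  Group.nilpotent_of_mulEquiv (cjEquiv g H)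

theorem cop_cj {s : ℕ} (g : G) {H : Subgroup G} (h : Cop s H) : Cop s (cj g H) := by
  unfold Cop at *; rwa [card_cj]

theorem cop_le {s : ℕ} {H K : Subgroup G} (h : H ≤ K) (hK : Cop s K) : Cop s H :=
  Nat.Coprime.coprime_dvd_left (Subgroup.card_dvd_of_le h) hK

theorem nil_le {H K : Subgroup G} (h : H ≤ K) (hK : Group.IsNilpotent K) : Group.IsNilpotent H :=
  Group.nilpotent_of_mulEquiv (Subgroup.subgroupOfEquivOfLe h)

theorem comm_bot {H K : Subgroup G} : ⁅H, K⁆ = ⊥ ↔ H ≤ Ce K :=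
  Subgroup.commutator_eq_bot_iff_le_centralizer

theorem comm_le_left {H K : Subgroup G} (h : K ≤ Nm H) : ⁅H, K⁆ ≤ H := by
  rw [Subgroup.commutator_le]
  intro a ha b hb
  have : b * a⁻¹ * b⁻¹ ∈ H := by
    have := cj_mem (g := b) (H.inv_mem ha)
    rwa [cj_eq_iff.2 (h hb)] at this
  have := H.mul_mem ha this
  simpa [commutatorElement_def, mul_assoc] using this

theorem comm_le_right {H K : Subgroup G} (h : H ≤ Nm K) : ⁅H, K⁆ ≤ K := by
  rw [Subgroup.commutator_comm]; exact comm_le_left h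

theorem sup_cj {k : G} {Y P : Subgroup G} (hk : k ∈ Y) : Y ⊔ cj k P = Y ⊔ P := by
  apply le_antisymm
  · exact sup_le le_sup_left (cj_le_of ((le_sup_left : Y ≤ Y ⊔ P) hk) le_sup_right)
  · refine sup_le le_sup_left ?_
    have := cj_le_of ((le_sup_left : Y ≤ Y ⊔ cj k P) (Y.inv_mem hk)) (le_sup_right : cj k P ≤ Y ⊔ cj k P)
    rwa [cj_inv_cj] at this

theorem cg_eq_ce (a : G) : Cg a = Ce (Subgroup.zpowers a) := by
  rw [Subgroup.zpowers_eq_closure]
  exact (Subgroup.centralizer_closure _).symm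

end H33.F2C
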