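import Cfsg.Agent.Lib.F2C.GD
import Cfsg.Agent.S0215
import Cfsg.Agent.S0205
import Cfsg.Agent.S0027

set_option autoImplicit false
set_option linter.unusedSectionVars false

open scoped commutatorElement

namespace H33.F2C

universe u

variable {G : Type*} [Group G] [Finite G]

variable {X : Set (Subgroup G)}

namespace P2

theorem card_two {P : Subgroup G} (h : Nat.card P = 2) :
    ∃ x : G, x ≠ 1 ∧ x * x = 1 ∧ P = Subgroup.zpowers x ∧ ∀ g, g ∈ P ↔ g = 1 ∨ g = x := by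
  obtain ⟨y, hy1, hy⟩ := (Nat.card_eq_two_iff' (1 : P)).1 h
  have key : ∀ g, g ∈ P ↔ g = 1 ∨ g = y := by
    intro g
    constructor
    · intro hg
      by_cases h1 : (⟨g, hg⟩ : P) = 1
      · exact Or.inl (congrArg Subtype.val h1)
      · exact Or.inr (congrArg Subtype.val (hy _ h1))
    · rintro (rfl | rfl)
      · exact P.one_mem
      · exact y.2
  have hy1' : (y : G) ≠ 1 := fun h => hy1 (Subtype.ext h)
  refine ⟨y, hy1', ?_, ?_, key⟩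
  · rcases (key _).1 (P.mul_mem y.2 y.2) with h | h
    · exact h
    · exact absurd (by simpa using h) hy1'
  · apply le_antisymm
    · intro g hg
      rcases (key g).1 hg with rfl | rfl
      · exact Subgroup.one_mem _
      · exact Subgroup.mem_zpowers _
    · exact (Subgroup.zpowers_le).2 y.2

theorem conj_mem {z v : G} {Y : Subgroup G} (hz : z ∈ Nm Y) (hv : v ∈ Y) : z * v * z⁻¹ ∈ Y := by
  have := cj_mem (g := z) hv
  rwa [cj_eq_iff.2 hz] at this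

theorem nm_closure {s : Set G} {e : G} (h : ∀ t ∈ s, e * t * e⁻¹ ∈ Subgroup.closure s) :
    e ∈ Nm (Subgroup.closure s) := by
  rw [← cj_eq_iff]
  refine Subgroup.eq_of_le_of_card_ge ?_ (card_cj e _).ge
  unfold cj
  rw [Subgroup.map_le_iff_le_comap, Subgroup.closure_le]
  intro t ht
  simpa using h t ht

theorem mem_of_sq {H : Subgroup G} {a : G} (ho : Odd (orderOf a)) (h : a * a ∈ H) : a ∈ H := by
  obtain ⟨m, hm⟩ := exists_pow_eq_self_of_coprime (x := a) (n := 2) (Nat.coprime_two_left.2 ho)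
  rw [← hm, pow_two]
  exact H.pow_mem h m

theorem odd_of_p {r : ℕ} (hr : r.Prime) (h2 : r ≠ 2) {a : G} (h : IsPGroup r (Subgroup.zpowers a)) :
    Odd (orderOf a) := by
  have := cop_of_p hr Nat.prime_two h2 h
  unfold Cop at this
  rw [Nat.card_zpowers] at this
  exact Nat.coprime_two_right.1 this

theorem zp_nil (c : G) : Group.IsNilpotent (Subgroup.zpowers c) := by
  letI : CommGroup (Subgroup.zpowers c) := IsCyclic.commGroup
  exact CommGroup.isNilpotent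

theorem mem_zp {P : Subgroup G} {u c : G} (hP : ∀ g, g ∈ P ↔ g = 1 ∨ g = u)
    (hi : u * c * u⁻¹ = c⁻¹) (ho : Odd (orderOf c)) : Mem 2 P (Subgroup.zpowers c) := by
  have hn : P ≤ Nm (Subgroup.zpowers c) := by
    intro g hg
    rcases (hP g).1 hg with rfl | rfl
    · exact Subgroup.one_mem _
    · rw [Subgroup.zpowers_eq_closure]
      refine nm_closure fun t ht => ?_
      rw [Set.mem_singleton_iff.1 ht, hi]
      exact Subgroup.inv_mem _ (Subgroup.subset_closure rfl)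
  refine ⟨zp_nil c, ?_, hn, le_antisymm (comm_le_left hn) ?_⟩
  · unfold Cop
    rw [Nat.card_zpowers]
    exact Nat.coprime_two_right.2 ho
  · rw [Subgroup.zpowers_le]
    refine mem_of_sq ho ?_
    have := Subgroup.commutator_mem_commutator (Subgroup.mem_zpowers c) ((hP u).2 (Or.inr rfl))
    have e : ⁅c, u⁆ = c * c := by
      have : u * c⁻¹ * u⁻¹ = c := by
        have := congrArg (·⁻¹) hi
        simpa [mul_assoc] using this
      rw [commutatorElement_def, mul_assoc c, mul_assoc c, this]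
    rwa [e] at this

/-- a pair of commuting points -/
structure Cf (X : Set (Subgroup G)) (P P' : Subgroup G) (x y : G) : Prop where
  hy : Hy 2 X
  hP : P ∈ X
  hP' : P' ∈ X
  mP : ∀ g, g ∈ P ↔ g = 1 ∨ g = x
  mP' : ∀ g, g ∈ P' ↔ g = 1 ∨ g = y
  x1 : x ≠ 1
  y1 : y ≠ 1
  xy : x ≠ y
  xx : x * x = 1
  yy : y * y = 1
  cm : x * y = y * x
  pp : Nat.card ↥(P ⊔ P') = 2 ^ 2 ∧ P ⊔ P' ≤ Ce (P ⊔ P') ∧ ¬ IsCyclic ↥(P ⊔ P') ∧ IsPGroup 2 ↥(P ⊔ P')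
  nn : P' ≤ Nm P

variable {P P' : Subgroup G} {x y : G}

theorem Cf.mA (c : Cf X P P' x y) {g : G} (hg : g ∈ P ⊔ P') : g = 1 ∨ g = x ∨ g = y ∨ g = x * y := by
  obtain ⟨a, ha, b, hb, rfl⟩ := (mem_sup_nm c.nn).1 hg
  rcases (c.mP a).1 ha with rfl | rfl <;> rcases (c.mP' b).1 hb with rfl | rfl <;> simp

theorem Cf.xA (c : Cf X P P' x y) : x ∈ P ⊔ P' :=
  (le_sup_left : P ≤ P ⊔ P') ((c.mP x).2 (Or.inr rfl))

theorem Cf.yA (c : Cf X P P' x y) : y ∈ P ⊔ P' :=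
  (le_sup_right : P' ≤ P ⊔ P') ((c.mP' y).2 (Or.inr rfl))

theorem Cf.sq (c : Cf X P P' x y) {g : G} (hg : g ∈ P ⊔ P') : g * g = 1 := by
  rcases c.mA hg with rfl | rfl | rfl | rfl
  · simp
  · exact c.xx
  · exact c.yy
  · calc x * y * (x * y) = x * (y * x) * y := by group
      _ = (x * x) * (y * y) := by rw [← c.cm]; group
      _ = 1 := by rw [c.xx, c.yy, one_mul]

theorem Cf.third (c : Cf X P P' x y) {d e f : G} (hd : d ∈ P ⊔ P') (he : e ∈ P ⊔ P')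
    (hf : f ∈ P ⊔ P') (d1 : d ≠ 1) (e1 : e ≠ 1) (f1 : f ≠ 1) (ed : e ≠ d) (fd : f ≠ d) (fe : f ≠ e) :
    f = e * d := by
  have h1 : x * (x * y) = y := by rw [← mul_assoc, c.xx, one_mul]
  have h2 : y * (x * y) = x := by rw [c.cm, ← mul_assoc, c.yy, one_mul]
  have h3 : x * y * x = y := by rw [c.cm, mul_assoc, c.xx, mul_one]
  have h4 : x * y * y = x := by rw [mul_assoc, c.yy, mul_one]
  have h5 := c.cm
  rcases c.mA hd with rfl | rfl | rfl | rfl <;> rcases c.mA he with rfl | rfl | rfl | rfl <;>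
    rcases c.mA hf with rfl | rfl | rfl | rfl <;>
    first | contradiction | rfl | exact h1.symm | exact h2.symm | exact h3.symm | exact h4.symm | exact h5

theorem Cf.cop (c : Cf X P P' x y) {K : Subgroup G} (hK : Cop 2 K) :
    (Nat.card ↥(P ⊔ P')).Coprime (Nat.card K) := by
  rw [c.pp.1]
  exact Nat.Coprime.pow_left 2 (Nat.Coprime.symm hK)

theorem Cf.le_cg (c : Cf X P P' x y) {d : G} (hd : d ∈ P ⊔ P') : Ce (P ⊔ P') ≤ Cg d := fun g hg => by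
  rw [Subgroup.mem_centralizer_singleton_iff]
  exact (Subgroup.mem_centralizer_iff.1 hg d hd).symm

/-- `O_r` of the nilpotent core -/
def R (r : ℕ) (M : Subgroup G) : Subgroup G := Os r (Fp 2 M)

theorem nm_R (r : ℕ) (M : Subgroup G) : M ≤ Nm (R r M) :=
  Subgroup.le_normalizer.trans ((nm_fp 2 M).trans (nm_os r _))

theorem R_le (r : ℕ) (M : Subgroup G) : R r M ≤ M := (os_le r _).trans (fp_le 2 M)

theorem Cf.commR (c : Cf X P P' x y) {r : ℕ} (hr : r.Prime) (h2 : r ≠ 2) {M K : Subgroup G}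
    (hM : M ≠ ⊤) (hA : P ⊔ P' ≤ M) (hK : K ≤ M) (hn : P ⊔ P' ≤ Nm K) (hp : IsPGroup r K) :
    ⁅K, P ⊔ P'⁆ ≤ R r M := by
  have hc := cop_of_p hr Nat.prime_two h2 hp
  have h1 := c.hy.comm_le hM c.hP (le_sup_left.trans hA) hK (le_sup_left.trans hn) hc
  have h2' := c.hy.comm_le hM c.hP' (le_sup_right.trans hA) hK (le_sup_right.trans hn) hc
  refine le_os_nil hr (fp_nil 2 M) ?_ (hp.to_le (comm_le_left hn))
  rw [Subgroup.commutator_le]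
  intro k hk e he
  obtain ⟨a, ha, b, hb, rfl⟩ := (mem_sup_nm c.nn).1 he
  have e1 : ⁅k, a * b⁆ = ⁅k, a⁆ * (a * ⁅k, b⁆ * a⁻¹) := by
    simp only [commutatorElement_def]; group
  rw [e1]
  refine (Fp 2 M).mul_mem (h1 (Subgroup.commutator_mem_commutator hk ha)) ?_
  exact conj_mem (nm_fp 2 M (Subgroup.le_normalizer (hA ((le_sup_left : P ≤ P ⊔ P') ha))))
    (h2' (Subgroup.commutator_mem_commutator hk hb))

/-- `[O_r(F(C(d))), A]` -/
def Y (A : Subgroup G) (r : ℕ) (d : G) : Subgroup G := ⁅R r (Cg d), A⁆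

theorem Cf.A_le (c : Cf X P P' x y) {d : G} (hd : d ∈ P ⊔ P') : P ⊔ P' ≤ Cg d :=
  c.pp.2.1.trans (c.le_cg hd)

theorem Cf.Y_le (c : Cf X P P' x y) (r : ℕ) {d : G} (hd : d ∈ P ⊔ P') :
    Y (P ⊔ P') r d ≤ R r (Cg d) := comm_le_left ((c.A_le hd).trans (nm_R r _))

theorem Cf.Y_nm (c : Cf X P P' x y) (r : ℕ) {d : G} (hd : d ∈ P ⊔ P') :
    Ce (P ⊔ P') ≤ Nm (Y (P ⊔ P') r d) := fun _ hg =>
  nm_comm (nm_R r _ (c.le_cg hd hg)) (ce_le_nm _ hg)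

theorem Cf.fix_le (c : Cf X P P' x y) {r : ℕ} (hr : r.Prime) (h2 : r ≠ 2) {K : Subgroup G}
    (hn : P ⊔ P' ≤ Nm K) (hp : IsPGroup r K) {d : G} (hd : d ∈ P ⊔ P') (d1 : d ≠ 1) :
    K ⊓ Cg d ≤ Y (P ⊔ P') r d ⊔ Ce (P ⊔ P') := by
  have hn' : P ⊔ P' ≤ Nm (K ⊓ Cg d) := fun g hg =>
    nm_inf (hn hg) (Subgroup.le_normalizer (c.A_le hd hg))
  have hp' : IsPGroup r ↥(K ⊓ Cg d) := hp.to_le inf_le_left
  have hc := c.cop (cop_of_p hr Nat.prime_two h2 hp')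
  have hnil := p_nil hr hp'
  have h1 := c.commR hr h2 (c.hy.cg_ne d1) (c.A_le hd) inf_le_right hn' hp'
  have h3 : ⁅K ⊓ Cg d, P ⊔ P'⁆ ≤ Y (P ⊔ P') r d := by
    rw [← Cfsg.Agent.S0027.result (P ⊔ P') (K ⊓ Cg d) hn' hc (Or.inr inferInstance)]
    exact Subgroup.commutator_mono h1 le_rfl
  intro g hg
  obtain ⟨a, ha, b, hb, rfl⟩ := dec hnil hn' hc hg
  exact Subgroup.mul_mem _ ((le_sup_left : _ ≤ _ ⊔ Ce (P ⊔ P')) (h3 ha))
    ((le_sup_right : _ ≤ Y (P ⊔ P') r d ⊔ _) hb.2)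

/-- inverted by the involutions other than `d` -/
def Iv (A : Subgroup G) (d a : G) : Prop := ∀ f ∈ A, f ≠ 1 → f ≠ d → f * a * f⁻¹ = a⁻¹

theorem Cf.Y_gen (c : Cf X P P' x y) (r : ℕ) {d : G} (hd : d ∈ P ⊔ P') (d1 : d ≠ 1) {T : Subgroup G}
    (h : ∀ a ∈ Y (P ⊔ P') r d, Iv (P ⊔ P') d a → a ∈ T) : Y (P ⊔ P') r d ≤ T := by
  unfold Y
  rw [Subgroup.commutator_le]
  intro k hk e he
  have hkd : k * d = d * k := Subgroup.mem_centralizer_singleton_iff.1 (R_le r _ hk)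
  by_cases e1 : e = 1
  · subst e1; simp
  by_cases ed : e = d
  · subst ed
    rw [commutatorElement_eq_one_iff_mul_comm.2 hkd]; exact T.one_mem
  have hm : ⁅k, e⁆ ∈ Y (P ⊔ P') r d := Subgroup.commutator_mem_commutator hk he
  refine h _ hm fun f hf f1 fd => ?_
  have ee := c.sq he
  have ei : e⁻¹ = e := inv_eq_of_mul_eq_one_right ee
  have h1 : e * ⁅k, e⁆ * e⁻¹ = ⁅k, e⁆⁻¹ := by
    rw [commutatorElement_inv, commutatorElement_def, commutatorElement_def, ei]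
    calc e * (k * e * k⁻¹ * e) * e = e * k * e * k⁻¹ * (e * e) := by group
      _ = _ := by rw [ee, mul_one]
  by_cases fe : f = e
  · rw [fe]; exact h1
  rw [c.third hd he hf d1 e1 f1 ed fd fe]
  have h2 : ⁅k, e⁆ * d = d * ⁅k, e⁆ :=
    Subgroup.mem_centralizer_singleton_iff.1 (R_le r _ (c.Y_le r hd hm))
  calc e * d * ⁅k, e⁆ * (e * d)⁻¹ = e * (d * ⁅k, e⁆ * d⁻¹) * e⁻¹ := by group
    _ = _ := by rw [← h2, mul_inv_cancel_right, h1]

theorem Cf.act (c : Cf X P P' x y) {r : ℕ} {d a : G} (hd : d ∈ P ⊔ P') (ha : a ∈ Y (P ⊔ P') r d)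
    (hi : Iv (P ⊔ P') d a) {e : G} (he : e ∈ P ⊔ P') : e * a * e⁻¹ = a ∨ e * a * e⁻¹ = a⁻¹ := by
  by_cases e1 : e = 1
  · subst e1; simp
  by_cases ed : e = d
  · subst ed
    have h2 : a * e = e * a := Subgroup.mem_centralizer_singleton_iff.1 (R_le r _ (c.Y_le r hd ha))
    left; rw [← h2, mul_inv_cancel_right]
  exact Or.inr (hi e he e1 ed)

theorem Cf.zp (c : Cf X P P' x y) {r : ℕ} (hr : r.Prime) {d a : G} (hd : d ∈ P ⊔ P')
    (ha : a ∈ Y (P ⊔ P') r d) : IsPGroup r (Subgroup.zpowers a) :=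
  (os_p hr _).to_le ((Subgroup.zpowers_le).2 (c.Y_le r hd ha))

theorem Cf.inv_fp (c : Cf X P P' x y) {r : ℕ} (hr : r.Prime) (h2 : r ≠ 2) {d a : G}
    (hd : d ∈ P ⊔ P') (ha : a ∈ Y (P ⊔ P') r d) (hi : Iv (P ⊔ P') d a) {M : Subgroup G} (hM : M ≠ ⊤)
    (hA : P ⊔ P' ≤ M) (haM : a ∈ M) : a ∈ Fp 2 M := by
  have ho := odd_of_p hr h2 (c.zp hr hd ha)
  by_cases hx : x = d
  · have := mem_zp c.mP' (hi y c.yA c.y1 (fun h => c.xy (hx.trans h.symm))) ho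
    exact c.hy.mem_le_fp hM c.hP' (le_sup_right.trans hA) this ((Subgroup.zpowers_le).2 haM)
      (Subgroup.mem_zpowers a)
  · have := mem_zp c.mP (hi x c.xA c.x1 hx) ho
    exact c.hy.mem_le_fp hM c.hP (le_sup_left.trans hA) this ((Subgroup.zpowers_le).2 haM)
      (Subgroup.mem_zpowers a)

theorem Cf.join0 (c : Cf X P P' x y) {r s : ℕ} (hr : r.Prime) (h2 : r ≠ 2) {d d' a b : G} (hd : d ∈ P ⊔ P') (hd' : d' ∈ P ⊔ P')
    (ha : a ∈ Y (P ⊔ P') r d) (hi : Iv (P ⊔ P') d a) (hb : b ∈ Y (P ⊔ P') s d')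
    (hj : Iv (P ⊔ P') d' b) (a1 : a ≠ 1) (dd : d' ≠ d) (d1 : d' ≠ 1) {P₁ : Subgroup G} (hP₁ : P₁ ∈ X)
    (m₁ : ∀ g, g ∈ P₁ ↔ g = 1 ∨ g = d') :
    ∃ M : Subgroup G, M ≠ ⊤ ∧ P ⊔ P' ≤ M ∧ a ∈ M ∧ b ∈ M := by
  have ho := odd_of_p hr h2 (c.zp hr hd ha)
  have hinv := hi d' hd' d1 dd
  have hdP : d' ∈ P₁ := (m₁ d').2 (Or.inr rfl)
  have hk : a ∈ P₁ ⊔ cj a P₁ := by
    refine mem_of_sq ho ?_
    have e : a * a = (a * d' * a⁻¹) * d'⁻¹ := by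
      have : d' * a⁻¹ * d'⁻¹ = a := by
        have := congrArg (·⁻¹) hinv
        simpa [mul_assoc] using this
      rw [mul_assoc a, mul_assoc a, this]
    rw [e]
    exact Subgroup.mul_mem _ ((le_sup_right : _ ≤ P₁ ⊔ _) (cj_mem hdP))
      ((le_sup_left : _ ≤ _ ⊔ cj a P₁) (P₁.inv_mem hdP))
  have hbP : b ∈ Ce P₁ := by
    rw [Subgroup.mem_centralizer_iff]
    intro g hg
    rcases (m₁ g).1 hg with rfl | rfl
    · simp
    · exact (Subgroup.mem_centralizer_singleton_iff.1 (R_le s _ (c.Y_le s hd' hb))).symm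
  obtain ⟨H, hH, h1, h3, hbH⟩ := c.hy.h2 hP₁ hk (ce_le_nm _ hbP)
  have haH : a ∈ H := sup_le h1 h3 hk
  have haF : a ∈ Fp 2 H := c.hy.mem_le_fp hH hP₁ h1 (mem_zp m₁ hinv ho) ((Subgroup.zpowers_le).2 haH)
    (Subgroup.mem_zpowers a)
  have hsol : Group.IsSolvable ↥(Fp 2 H ⊔ Subgroup.zpowers b) := by
    have := fp_nil 2 H
    exact solv_sup ((Subgroup.zpowers_le).2 (nm_fp 2 H (Subgroup.le_normalizer hbH)))
      inferInstance inferInstance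
  have hT : Subgroup.closure {a, b} ≤ Fp 2 H ⊔ Subgroup.zpowers b := by
    rw [Subgroup.closure_le]
    rintro t (rfl | rfl)
    · exact (le_sup_left : _ ≤ _ ⊔ Subgroup.zpowers b) haF
    · exact (le_sup_right : _ ≤ Fp 2 H ⊔ _) (Subgroup.mem_zpowers _)
  have haT : a ∈ Subgroup.closure {a, b} := Subgroup.subset_closure (by simp)
  have hbT : b ∈ Subgroup.closure {a, b} := Subgroup.subset_closure (by simp)
  refine ⟨Nm (Subgroup.closure {a, b}), c.hy.nosolv _ ?_ ?_, fun e he => nm_closure ?_,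
    Subgroup.le_normalizer haT, Subgroup.le_normalizer hbT⟩
  · intro h
    rw [h, Subgroup.mem_bot] at haT
    exact a1 haT
  · exact Group.isSolvable_of_isSolvable_injective (Subgroup.inclusion_injective hT)
  · rintro t (rfl | rfl)
    · rcases c.act hd ha hi he with h | h <;> rw [h]
      · exact haT
      · exact Subgroup.inv_mem _ haT
    · rcases c.act hd' hb hj he with h | h <;> rw [h]
      · exact hbT
      · exact Subgroup.inv_mem _ hbT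

theorem Cf.join (c : Cf X P P' x y) {r s : ℕ} (hr : r.Prime) (h2 : r ≠ 2) (hs : s.Prime) (s2 : s ≠ 2)
    {d d' a b : G} (hd : d ∈ P ⊔ P') (hd' : d' ∈ P ⊔ P') (d1 : d ≠ 1) (d1' : d' ≠ 1)
    (ha : a ∈ Y (P ⊔ P') r d) (hi : Iv (P ⊔ P') d a) (hb : b ∈ Y (P ⊔ P') s d')
    (hj : Iv (P ⊔ P') d' b) (a1 : a ≠ 1) (b1 : b ≠ 1) :
    ∃ M : Subgroup G, M ≠ ⊤ ∧ P ⊔ P' ≤ M ∧ a ∈ Fp 2 M ∧ b ∈ Fp 2 M := by
  suffices h : ∃ M : Subgroup G, M ≠ ⊤ ∧ P ⊔ P' ≤ M ∧ a ∈ M ∧ b ∈ M by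
    obtain ⟨M, hM, hA, haM, hbM⟩ := h
    exact ⟨M, hM, hA, c.inv_fp hr h2 hd ha hi hM hA haM, c.inv_fp hs s2 hd' hb hj hM hA hbM⟩
  by_cases dd : d' = d
  · subst dd
    exact ⟨Cg d', c.hy.cg_ne d1, c.A_le hd, R_le r _ (c.Y_le r hd ha), R_le s _ (c.Y_le s hd hb)⟩
  by_cases hx : d' = x
  · exact c.join0 hr h2 hd hd' ha hi hb hj a1 dd d1' c.hP (by rw [hx]; exact c.mP)
  by_cases hy : d' = y
  · exact c.join0 hr h2 hd hd' ha hi hb hj a1 dd d1' c.hP' (by rw [hy]; exact c.mP')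
  have hxy : d' = x * y := by
    rcases c.mA hd' with h | h | h | h <;> first | contradiction | exact h
  have : d = x ∨ d = y := by
    rcases c.mA hd with h | h | h | h
    · contradiction
    · exact Or.inl h
    · exact Or.inr h
    · exact absurd (hxy.trans h.symm) dd
  rcases this with h | h
  · obtain ⟨M, h1, h3, h4, h5⟩ :=
      c.join0 hs s2 hd' hd hb hj ha hi b1 (Ne.symm dd) d1 c.hP (by rw [h]; exact c.mP)
    exact ⟨M, h1, h3, h5, h4⟩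
  · obtain ⟨M, h1, h3, h4, h5⟩ :=
      c.join0 hs s2 hd' hd hb hj ha hi b1 (Ne.symm dd) d1 c.hP' (by rw [h]; exact c.mP')
    exact ⟨M, h1, h3, h5, h4⟩

theorem Cf.Y_ex (c : Cf X P P' x y) (r : ℕ) {d : G} (hd : d ∈ P ⊔ P') (d1 : d ≠ 1)
    (h : Y (P ⊔ P') r d ≠ ⊥) : ∃ a ∈ Y (P ⊔ P') r d, Iv (P ⊔ P') d a ∧ a ≠ 1 := by
  by_contra hn
  push Not at hn
  exact h (eq_bot_iff.2 (c.Y_gen r hd d1 fun a ha hi => by rw [hn a ha hi]; exact Subgroup.one_mem _))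

/-- all `Y r d` lie in one `r`-group -/
theorem Cf.one (c : Cf X P P' x y) {r : ℕ} (hr : r.Prime) (h2 : r ≠ 2) :
    ∃ D : Subgroup G, IsPGroup r D ∧ ∀ d ∈ P ⊔ P', d ≠ 1 → Y (P ⊔ P') r d ≤ D := by
  by_cases h0 : ∀ d ∈ P ⊔ P', d ≠ 1 → Y (P ⊔ P') r d = ⊥
  · exact ⟨⊥, IsPGroup.of_bot, fun d hd d1 => (h0 d hd d1).le⟩
  push Not at h0
  obtain ⟨d₀, hd₀, d01, hY₀⟩ := h0
  let E : Set (Subgroup G) := {K | IsPGroup r K ∧ P ⊔ P' ≤ Nm K}
  have ti : ∀ {D₁ D₂ : Subgroup G}, Maximal (· ∈ E) D₁ → Maximal (· ∈ E) D₂ → D₁ ⊓ D₂ ≠ ⊥ →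
      ∃ g ∈ Ce (P ⊔ P'), cj g D₁ = D₂ := by
    intro D₁ D₂ h1 h3 h
    refine ticonj hr E (Ce (P ⊔ P')) (fun K hK => hK.1) ?_ ?_ ?_ ?_ h1 h3 h
    · exact fun K hK L hL => ⟨hK.1.to_le inf_le_left, fun g hg => nm_inf (hK.2 hg) (hL.2 hg)⟩
    · exact fun K hK L hL => ⟨hK.1.to_le inf_le_left, fun g hg => nm_inf (hK.2 hg) (nm_nm (hL.2 hg))⟩
    · intro g hg K hK
      refine ⟨p_cj g hK.1, ?_⟩
      rw [← cj_nm, ← cj_of_ce hg]
      exact cj_mono g hK.2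
    · intro L hL L1 K₁ hK₁ K₂ hK₂ n1 n2
      have hM := c.hy.nm_ne L1 (p_nil hr hL.1)
      obtain ⟨g, hg, S, hS, hSp, s1, s2⟩ := syl2 hr (T := Nm L ⊓ Ce (P ⊔ P'))
        (A := K₁ ⊓ Ce (P ⊔ P')) (B := K₂ ⊓ Ce (P ⊔ P')) (inf_le_inf_right _ n1) (inf_le_inf_right _ n2)
        (hK₁.1.to_le inf_le_left) (hK₂.1.to_le inf_le_left)
      have key : ∀ K ∈ E, K ≤ Nm L → K ≤ R r (Nm L) ⊔ (K ⊓ Ce (P ⊔ P')) := by
        intro K hK n k hk
        obtain ⟨a, ha, b, hb, rfl⟩ := dec (p_nil hr hK.1) hK.2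
          (c.cop (cop_of_p hr Nat.prime_two h2 hK.1)) hk
        exact Subgroup.mul_mem _ (Subgroup.mem_sup_left (c.commR hr h2 hM hL.2 n hK.2 hK.1 ha))
          ((le_sup_right : _ ≤ R r (Nm L) ⊔ _) hb)
      refine ⟨g, hg.2, R r (Nm L) ⊔ S, ⟨psup ((hS.trans inf_le_left).trans (nm_R r _)) (os_p hr _) hSp,
        fun e he => nm_sup (nm_R r _ (hL.2 he))
          (ce_le_nm S (ce_symm (hS.trans inf_le_right) he))⟩, ?_, ?_⟩
      · refine (cj_mono g (key K₁ hK₁ n1)).trans ?_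
        rw [cj_sup, cj_eq_iff.2 (nm_R r _ hg.1)]
        exact sup_le_sup_left s1 _
      · exact (key K₂ hK₂ n2).trans (sup_le_sup_left s2 _)
  have YE : ∀ d ∈ P ⊔ P', Y (P ⊔ P') r d ∈ E := fun d hd =>
    ⟨(os_p hr _).to_le (c.Y_le r hd), c.pp.2.1.trans (c.Y_nm r hd)⟩
  obtain ⟨D₁, hD₁, m₁⟩ := ex_max E (YE d₀ hd₀)
  refine ⟨D₁, m₁.prop.1, fun d hd d1 => ?_⟩
  by_cases hY : Y (P ⊔ P') r d = ⊥
  · rw [hY]; exact bot_le
  obtain ⟨D₂, hD₂, m₂⟩ := ex_max E (YE d hd)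
  obtain ⟨a, ha, hi, a1⟩ := c.Y_ex r hd₀ d01 hY₀
  obtain ⟨b, hb, hj, b1⟩ := c.Y_ex r hd d1 hY
  obtain ⟨M, hM, hA, haM, hbM⟩ := c.join hr h2 hr h2 hd₀ hd d01 d1 ha hi hb hj a1 b1
  have haR : a ∈ R r M := le_os_nil hr (fp_nil 2 M) ((Subgroup.zpowers_le).2 haM) (c.zp hr hd₀ ha)
    (Subgroup.mem_zpowers a)
  have hbR : b ∈ R r M := le_os_nil hr (fp_nil 2 M) ((Subgroup.zpowers_le).2 hbM) (c.zp hr hd hb)
    (Subgroup.mem_zpowers b)
  obtain ⟨D₃, hD₃, m₃⟩ := ex_max E (K := R r M) ⟨os_p hr _, hA.trans (nm_R r M)⟩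
  obtain ⟨g₁, hg₁, e₁⟩ := ti m₃ m₁ fun h => a1 (by
    have : a ∈ D₃ ⊓ D₁ := ⟨hD₃ haR, hD₁ ha⟩
    rwa [h, Subgroup.mem_bot] at this)
  obtain ⟨g₂, hg₂, e₂⟩ := ti m₂ m₃ fun h => b1 (by
    have : b ∈ D₂ ⊓ D₃ := ⟨hD₂ hb, hD₃ hbR⟩
    rwa [h, Subgroup.mem_bot] at this)
  rw [← e₁, ← e₂, ← cj_mul, ← cj_eq_iff.2 (c.Y_nm r hd ((Ce (P ⊔ P')).mul_mem hg₁ hg₂))]
  exact cj_mono _ hD₂

theorem Cf.cross (c : Cf X P P' x y) {r s : ℕ} (hr : r.Prime) (h2 : r ≠ 2) (hs : s.Prime) (s2 : s ≠ 2)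
    (hrs : s ≠ r) {d d' : G} (hd : d ∈ P ⊔ P') (hd' : d' ∈ P ⊔ P') (d1 : d ≠ 1) (d1' : d' ≠ 1) :
    Y (P ⊔ P') r d ≤ Ce (Y (P ⊔ P') s d') := by
  refine c.Y_gen r hd d1 fun a ha hi => ?_
  have : Y (P ⊔ P') s d' ≤ Cg a := by
    refine c.Y_gen s hd' d1' fun b hb hj => ?_
    rw [Subgroup.mem_centralizer_singleton_iff]
    by_cases a1 : a = 1
    · simp [a1]
    by_cases b1 : b = 1
    · simp [b1]
    obtain ⟨M, -, -, haM, hbM⟩ := c.join hr h2 hs s2 hd hd' d1 d1' ha hi hb hj a1 b1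
    have := comm_nil' hr (fp_nil 2 M) ((Subgroup.zpowers_le).2 haM) ((Subgroup.zpowers_le).2 hbM)
      (c.zp hr hd ha) (cop_of_p hs hr hrs (c.zp hs hd' hb))
    exact Subgroup.mem_centralizer_iff.1 (this (Subgroup.mem_zpowers a)) b (Subgroup.mem_zpowers b)
  rw [Subgroup.mem_centralizer_iff]
  intro b hb
  exact Subgroup.mem_centralizer_singleton_iff.1 (this hb)

theorem Cf.big (c : Cf X P P' x y) : ∃ M : Subgroup G, M ≠ ⊤ ∧ Ce (P ⊔ P') ≤ M ∧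
    ∀ r : ℕ, r.Prime → r ≠ 2 → ∀ d ∈ P ⊔ P', d ≠ 1 → Y (P ⊔ P') r d ≤ M := by
  by_cases h0 : ∀ r : ℕ, r.Prime → r ≠ 2 → ∀ d ∈ P ⊔ P', d ≠ 1 → Y (P ⊔ P') r d = ⊥
  · refine ⟨Ce (P ⊔ P'), c.hy.ce_ne fun h => c.x1 ?_, le_rfl, fun r hr h2 d hd d1 => ?_⟩
    · have := c.xA
      rwa [h, Subgroup.mem_bot] at this
    · rw [h0 r hr h2 d hd d1]; exact bot_le
  push Not at h0
  obtain ⟨r, hr, h2, d₀, hd₀, d01, hY⟩ := h0
  obtain ⟨D, hD, hYD⟩ := c.one hr h2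
  have xy1 : x * y ≠ 1 := fun h => c.xy (by
    rw [← mul_one x, ← c.yy, ← mul_assoc, h, one_mul])
  have xyA := (P ⊔ P').mul_mem c.xA c.yA
  let T := Y (P ⊔ P') r x ⊔ Y (P ⊔ P') r y ⊔ Y (P ⊔ P') r (x * y)
  have hYT : ∀ d ∈ P ⊔ P', d ≠ 1 → Y (P ⊔ P') r d ≤ T := by
    intro d hd d1
    rcases c.mA hd with rfl | rfl | rfl | rfl
    · contradiction
    · exact le_sup_left.trans le_sup_left
    · exact le_sup_right.trans le_sup_left
    · exact le_sup_right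
  have hTD : T ≤ D := sup_le (sup_le (hYD _ c.xA c.x1) (hYD _ c.yA c.y1)) (hYD _ xyA xy1)
  refine ⟨Nm T, c.hy.nm_ne (fun h => hY (eq_bot_iff.2 (h ▸ hYT d₀ hd₀ d01))) (p_nil hr (hD.to_le hTD)),
    fun g hg => nm_sup (nm_sup (c.Y_nm r c.xA hg) (c.Y_nm r c.yA hg)) (c.Y_nm r xyA hg), ?_⟩
  intro s hs s2 d hd d1
  by_cases hsr : s = r
  · subst hsr
    exact (hYT d hd d1).trans Subgroup.le_normalizer
  refine (ce_symm (sup_le (sup_le ?_ ?_) ?_)).trans (ce_le_nm T)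
  · exact c.cross hr h2 hs s2 hsr c.xA hd c.x1 d1
  · exact c.cross hr h2 hs s2 hsr c.yA hd c.y1 d1
  · exact c.cross hr h2 hs s2 hsr xyA hd xy1 d1

theorem Cf.mc (c : Cf X P P' x y) : MC 2 P := by
  obtain ⟨M, hM, hC, hY⟩ := c.big
  refine mc_of_mx hM (le_sup_left.trans (c.pp.2.1.trans hC)) fun r hr U hU => ?_
  have h2 : r ≠ 2 := mem_ne_p Nat.prime_two hU.mem hU.grp hU.ne
  refine mem_gen hU.mem fun a ha => ?_
  have hPa := c.hy.conj P c.hP a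
  obtain ⟨k1, k2, -, ⟨k, hk, e⟩, -⟩ := pure Nat.prime_two hU.mem.nil hU.mem.cop (c.hy.card _ c.hP)
    (c.hy.card _ hPa) hU.mem.nrm (cj_le_of ((le_sup_left : U ≤ U ⊔ P) ha) le_sup_right)
  obtain ⟨H, hH, h1, h3, h4⟩ := c.hy.h2 c.hP (k := k) (t := y) (by rw [← e]; exact kp_le _ _ hk)
    (c.nn ((c.mP' y).2 (Or.inr rfl)))
  rw [← e] at h3
  have hA : P ⊔ P' ≤ H := by
    refine sup_le h1 fun g hg => ?_
    rcases (c.mP' g).1 hg with rfl | rfl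
    · exact H.one_mem
    · exact h4
  have hK : Kp 2 P (cj a P) ≤ R r H := le_os_nil hr (fp_nil 2 H)
    (c.hy.mem_le_fp hH c.hP h1 k2 ((kp_le _ _).trans (sup_le h1 h3))) (hU.grp.to_le k1)
  refine hK.trans (gen58 c.pp.2.1 c.pp.2.2.1 (hA.trans (nm_R r H))
    (c.cop (cop_of_p hr Nat.prime_two h2 (os_p hr _))) fun e he e1 => ?_)
  exact (c.fix_le hr h2 (hA.trans (nm_R r H)) (os_p hr _) he e1).trans (sup_le (hY r hr h2 e he e1) hC)

end P2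

theorem Hy.two_adj (hy : Hy 2 X) : ∃ P ∈ X, ∃ P' ∈ X, P' ≤ Ce P ∧ P' ≠ P := by
  by_contra hn
  push Not at hn
  obtain ⟨P, hP⟩ := hy.ne
  obtain ⟨u, u1, uu, hPu, mP⟩ := P2.card_two (hy.card P hP)
  haveI : Fact (Nat.Prime 2) := ⟨Nat.prime_two⟩
  obtain ⟨T, hT⟩ := (hy.pt_p hP).exists_le_sylow
  have huP : u ∈ P := (mP u).2 (Or.inr rfl)
  obtain ⟨N, hN, hodd, hc⟩ := Cfsg.Agent.S0215.result T u
    (orderOf_eq_prime (by rw [pow_two, uu]) u1) (hT huP) (fun g hg => by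
      have h1 : cj g P ≤ T := by
        intro a ha
        rcases (mP _).1 (mem_cj.1 ha) with h | h
        · have : a = 1 := by
            calc a = g * (g⁻¹ * a * g) * g⁻¹ := by group
              _ = 1 := by rw [h]; group
          rw [this]; exact Subgroup.one_mem _
        · have : a = g * u * g⁻¹ := by rw [← h]; group
          rw [this]; exact hg
      have h2 := hy.adj hn hP (hy.conj P hP g) T.isPGroup' hT h1
      have h3 : g * u * g⁻¹ ∈ P := h2 ▸ cj_mem huP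
      rcases (mP _).1 h3 with h | h
      · exact absurd (by simpa using h) u1
      · exact h)
  have hN0 : N = ⊥ := by
    by_contra h
    exact hy.nosolv N h (Cfsg.Agent.S0205.result hodd) (Subgroup.normalizer_eq_top N)
  apply hy.cg_ne u1
  rw [eq_top_iff]
  intro g _
  have := hc g
  rw [hN0, Subgroup.mem_bot] at this
  rw [Subgroup.mem_centralizer_singleton_iff]
  calc g * u = (u * g * u⁻¹ * g⁻¹) * (g * u) := by rw [this, one_mul]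
    _ = u * g := by group

theorem Hy.two_mc (hy : Hy 2 X) : ∃ P ∈ X, MC 2 P := by
  obtain ⟨P, hP, P', hP', hc, hne⟩ := hy.two_adj
  obtain ⟨x, x1, xx, hPx, mP⟩ := P2.card_two (hy.card P hP)
  obtain ⟨y, y1, yy, hPy, mP'⟩ := P2.card_two (hy.card P' hP')
  obtain ⟨a1, a2, a3, a4, -⟩ := sup_pp Nat.prime_two (hy.card P hP) (hy.card P' hP') hne hc
  refine ⟨P, hP, P2.Cf.mc (P' := P') (x := x) (y := y) ⟨hy, hP, hP', mP, mP', x1, y1, ?_, xx, yy, ?_,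
    ⟨a1, a2, a3, a4⟩, hc.trans (ce_le_nm P)⟩⟩
  · intro h
    exact hne (by rw [hPx, hPy, h])
  · exact Subgroup.mem_centralizer_iff.1 (hc ((mP' y).2 (Or.inr rfl))) x ((mP x).2 (Or.inr rfl))

end H33.F2C
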