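import Cfsg.Agent.Lib.F2C.BE2
import Cfsg.Agent.Lib.F2C.AL4
import Cfsg.Agent.Lib.F2C.P2
import Cfsg.Agent.Lib.F2C.FS
import Cfsg.Agent.Lib.F2C.R3
import Cfsg.Agent.Lib.F2C.R4

set_option autoImplicit false

namespace H33.F2C

universe u

theorem Hy.top {G : Type*} [Group G] [Finite G] {p : ℕ} {X : Set (Subgroup G)} (hy : Hy p X) :
    False := by
  by_cases h2 : p = 2
  · subst h2
    obtain ⟨P, hP, h⟩ := hy.two_mc
    exact hy.fs hP h
  by_cases hmc : ∃ P ∈ X, MC p P
  · obtain ⟨P, hP, h⟩ := hmc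
    exact hy.fs hP h
  refine Al.false (p := p) (X := X) ⟨hy, h2, ?_, fun P hP h => hmc ⟨P, hP, h⟩⟩
  intro P hP r hr U hU hb
  exact hmc ⟨P, hP, hy.beta h2 hr hP hU hb⟩

theorem main_step {H : Type u} [Group H] [Finite H] (ih : IH H) (x : H) (h : Hyp x) :
    Meta (ncl ⊤ x) := by
  refine red_p h ?_
  intro p hp x k hk hx
  by_cases hg : ncl ⊤ x = ⊤
  swap
  · exact ih.gen hx hg
  by_cases hs : ∀ D : Subgroup H, D.Normal → Group.IsSolvable D → D = ⊥
  · by_cases h1 : x = 1
    · subst h1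
      refine meta_of_nil (nil_le (K := ⊥) (ncl_le_of (Subgroup.one_mem _) ?_) inferInstance)
      intro g _
      rw [← cj_eq_iff, cj_bot]
    · exfalso
      obtain ⟨j, -, hj⟩ := (Nat.dvd_prime_pow hp).1 (orderOf_dvd_of_pow_eq_one hk)
      have hj0 : j ≠ 0 := by
        rintro rfl
        exact h1 (orderOf_eq_one_iff.1 (by simpa using hj))
      have ho : orderOf (x ^ p ^ (j - 1)) = p := by
        rw [orderOf_pow_of_dvd (pow_ne_zero _ hp.ne_zero) (by rw [hj]; exact pow_dvd_pow p (Nat.sub_le _ _)), hj,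
          Nat.pow_div (Nat.sub_le _ _) hp.pos]
        have : j - (j - 1) = 1 := by omega
        rw [this, pow_one]
      have hx0 := hx.pow (p ^ (j - 1))
      by_cases hg0 : ncl ⊤ (x ^ p ^ (j - 1)) = ⊤
      · exact (ih.mkhy hp ho hx0 hg0 hs).top
      · have := hs _ (ncl_normal _) (ih.gen hx0 hg0).solv
        have hm := mem_ncl (⊤ : Subgroup H) (x ^ p ^ (j - 1))
        rw [this, Subgroup.mem_bot] at hm
        rw [hm, orderOf_one] at ho
        exact hp.one_lt.ne ho
  · push Not at hs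
    obtain ⟨D, hD, hDs, hD'⟩ := hs
    rw [hg]
    by_contra hm
    obtain ⟨N, T, hN, r, y, hT, hNT, -, hmin, hC, hr, hrp, hc, hTr, hy, hyx⟩ :=
      ih.solv_cfg hp hk hx hg hm hD hD' hDs
    exact hm (ih.solv_end hp hk hx hg hT hNT hmin hC hr hrp hc hTr hy hyx)

theorem main (n : ℕ) : ∀ (H : Type u) [Group H] [Finite H], Nat.card H = n → ∀ x : H, Hyp x →
    Meta (ncl ⊤ x) := by
  induction n using Nat.strong_induction_on with
  | _ n ih =>
    intro H _ _ hn x hx
    refine main_step (fun H' _ _ hlt x' hx' => ih _ (hn ▸ hlt) H' rfl x' hx') x hx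

theorem f2_char {G : Type*} [Group G] [Finite G] (x : G) :
    x ∈ F2 G ↔ ∀ y : G, ∀ hx : x ∈ Subgroup.closure ({x, y} : Set G),
      (⟨x, hx⟩ : ↥(Subgroup.closure ({x, y} : Set G))) ∈ F2 ↥(Subgroup.closure ({x, y} : Set G)) := by
  constructor
  · intro h y hx
    rw [f2_iff, meta_sub]
    rw [f2_iff] at h
    refine h.mono (ncl_le_of (mem_ncl _ _) (le_top.trans (nm_ncl _ _)))
  · intro h
    rw [f2_iff]
    refine main _ G rfl x fun y => ?_
    have hx : x ∈ Subgroup.closure ({x, y} : Set G) := Subgroup.subset_closure (by simp)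
    have := h y hx
    rwa [f2_iff, meta_sub] at this

end H33.F2C
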